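import Cfsg.Agent.Lib.Fi24Mult.CoverPerm
import Cfsg.Agent.Lib.Fi24Mult.Hom
import Cfsg.Agent.Lib.Fi24Act.Simple
import Cfsg.Prelude.Def_KGroupFacts

/-!
The twelve permutations of the cover generate an extension of Fi24 by a group of order three; its derived
subgroup is a stem extension of Fi24'.
-/

set_option autoImplicit false

namespace CfsgLib.Fi24Mult.Cover

open CfsgLib.CosetEnum Cfsg.Spor CfsgLib.Fi24Pres CfsgLib.Fi24Act
open scoped commutatorElement

/-- `k` as a permutation -/
noncomputable def kPermC : Equiv.Perm XC := Function.Involutive.toPerm kC kC_kC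

/-- the twelve permutations -/
noncomputable def genC (g : ℕ) : Equiv.Perm XC :=
  if g < 11 then actC (genK g) else if g = 11 then kPermC else 1

theorem genC_apply (g : ℕ) (p : XC) : genC g p = stepC g p := by
  unfold genC stepC
  split
  · rfl
  · split <;> rfl

theorem appC_eq : ∀ (Q : List ℕ) (p : XC), appC Q p = prodW genC Q.reverse p
  | [], p => by simp [appC]
  | g :: Q, p => by
    rw [appC_cons, appC_eq Q, List.reverse_cons, prodW_append, prodW_cons, prodW_nil, mul_one,
      Equiv.Perm.mul_apply, genC_apply]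

theorem genC_small {g : ℕ} (hg : g < 11) : genC g = actC (genK g) := if_pos hg

theorem genC_sq (g : ℕ) : genC g * genC g = 1 := by
  unfold genC
  split
  · rw [← map_mul, mul_eq_one_iff_eq_inv.mpr (Fi24Act.genK_inv g).symm, map_one]
  · split
    · exact Equiv.ext kC_kC
    · exact one_mul _

theorem proj_genC (g : ℕ) (p : XC) : proj (genC g p) = genX g (proj p) := by
  rw [genC_apply, Fi24Act.genX_apply, stepC, Fi24Act.stepX]
  split
  · exact proj_act _ _
  · split
    · exact kC_proj p
    · rfl

theorem cube_fixC {g : ℕ} (h : ∀ p, appC [11, g, 11, g, 11, g] p = p) :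
    genC 11 * genC g * genC 11 = genC g * genC 11 * genC g := by
  have h6 : prodW genC [g, 11, g, 11, g, 11] = 1 := Equiv.ext fun p => by
    have := h p
    rw [appC_eq] at this
    simpa using this
  simp only [prodW_cons, prodW_nil, mul_one] at h6
  have i1 : ∀ x, (genC x)⁻¹ = genC x := fun x => inv_eq_of_mul_eq_one_right (genC_sq x)
  have e : genC g * genC 11 * genC g * (genC 11 * genC g * genC 11) = 1 := by
    simpa only [mul_assoc] using h6
  rw [mul_eq_one_iff_eq_inv] at e
  rw [e, mul_inv_rev, mul_inv_rev, i1, i1, ← mul_assoc]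

theorem rel24C : M24.Rel24 genC where
  sq := genC_sq
  ten := by
    have h7 : ∀ g ∈ sevenW, g < 11 := by decide +kernel
    have e : prodW genC sevenW = actC (prodW genK sevenW) := by
      rw [map_prodW]
      exact prodW_congr fun g hg => genC_small (h7 g hg)
    rw [e, genC_small (by norm_num), ← eqK_spec ten_seven]
    simp
  cox :=
    { sq := fun g _ => genC_sq g
      comm := fun a ha b hb hab => by
        have hsym : ∀ x < 12, ∀ y < 12, adjB x y = adjB y x := by decide +kernel
        have hk : ∀ g < 11, adjB 11 g = false → Commute (genC 11) (genC g) := by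
          intro g hg hadj
          have hg' : 1 ≤ g ∧ g < 10 := by
            revert hadj
            revert g
            decide +kernel
          refine Equiv.ext fun q => ?_
          rw [Equiv.Perm.mul_apply, Equiv.Perm.mul_apply, genC_small hg, genC_apply, genC_apply]
          exact stepC_k (Subgroup.subset_closure ⟨g, hg'.1, hg'.2, rfl⟩) q
        rcases Nat.lt_or_ge a 11 with ha' | ha' <;> rcases Nat.lt_or_ge b 11 with hb' | hb'
        · have h := cox_pairs
          simp only [List.all_eq_true, List.mem_range] at h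
          have h1 := h a ha' b hb'
          rw [coxPairOK, hab, if_neg (by simp)] at h1
          have e := eqK_spec h1
          simp only [prodW_cons, prodW_nil, mul_one] at e
          rw [genC_small ha', genC_small hb']
          exact Commute.map e actC
        · obtain rfl : b = 11 := by omega
          exact (hk a ha' (by rw [← hsym a ha 11 hb]; exact hab)).symm
        · obtain rfl : a = 11 := by omega
          exact hk b hb' hab
        · obtain rfl : a = 11 := by omega
          obtain rfl : b = 11 := by omega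
          exact Commute.refl _
      braid := fun a ha b hb hab => by
        have hcases : ∀ x < 12, ∀ y < 12, adjB x y = true → (x < 11 ∧ y < 11) ∨
            (x = 11 ∧ (y = 0 ∨ y = 10)) ∨ (y = 11 ∧ (x = 0 ∨ x = 10)) := by
          intro x hx y hy
          revert hy
          revert y
          revert hx
          revert x
          set_option synthInstance.maxSize 1000 in
          decide +kernel
        have h0 := cube_fixC zero_fixC
        have h10 := cube_fixC ten_fixC
        rcases hcases a ha b hb hab with ⟨ha', hb'⟩ | ⟨rfl, rfl | rfl⟩ | ⟨rfl, rfl | rfl⟩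
        · have h := cox_pairs
          simp only [List.all_eq_true, List.mem_range] at h
          have h1 := h a ha' b hb'
          rw [coxPairOK, hab, if_pos rfl] at h1
          have e := congrArg actC (eqK_spec h1)
          simp only [prodW_cons, prodW_nil, mul_one, map_mul, ← mul_assoc] at e
          rw [genC_small ha', genC_small hb']
          exact e
        · exact h0
        · exact h10
        · exact h0.symm
        · exact h10.symm }

theorem genC_rot (g : ℕ) (hg : g < 12) : genC g * rotP * (genC g)⁻¹ = rotP⁻¹ := by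
  rw [mul_inv_eq_iff_eq_mul]
  rcases Nat.lt_or_ge g 11 with h | h
  · rw [genC_small h]
    exact rot_odd rfl
  · obtain rfl : g = 11 := by omega
    refine Equiv.ext fun p => ?_
    simp only [Equiv.Perm.mul_apply, genC_apply, stepC, show ¬ (11 : ℕ) < 11 by norm_num, if_false, if_true]
    exact kC_rot p

theorem rot_cube : rotP * rotP * rotP = 1 := by
  refine Equiv.ext fun p => ?_
  obtain ⟨s, x, j, rfl⟩ := ptC_surj p
  simp only [Equiv.Perm.mul_apply, rotP_ptC, Equiv.Perm.one_apply]
  have h : ∀ (e : Multiplicative (ZMod 2)) (j : Fin 3), rotE e (rotE e (rotE e j)) = j := by decide +kernel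
  rw [h]

theorem rot_ne : rotP ≠ 1 := by
  intro h
  have h1 := DFunLike.congr_fun h (ptC 0 1 0)
  rw [rotP_ptC, Equiv.Perm.one_apply, ptC_eq, mul_inv_cancel, piS_one] at h1
  exact absurd h1.2 (by decide)

/-- the extension of Fi24 -/
noncomputable def GC : Subgroup (Equiv.Perm XC) := Subgroup.closure {y | ∃ g < 12, genC g = y}

theorem genC_mem {g : ℕ} (hg : g < 12) : genC g ∈ GC := Subgroup.subset_closure ⟨g, hg, rfl⟩

theorem word_mem {w : List ℕ} (hw : ∀ g ∈ w, g < 12) : prodW genC w ∈ GC := by
  refine Subgroup.list_prod_mem _ fun x hx => ?_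
  obtain ⟨g, hg, rfl⟩ := List.mem_map.mp hx
  exact genC_mem (hw g hg)

theorem tau_rot : prodW genC tauQ.reverse = rotP :=
  Equiv.ext fun p => (appC_eq tauQ p).symm.trans (tau_value p)

theorem rot_mem : rotP ∈ GC := by
  rw [← tau_rot]
  exact word_mem (by decide +kernel)

theorem exists_down (x : GC) : ∃ h : Fi24, ∀ p, proj (x.1 p) = actF h (proj p) := by
  obtain ⟨x, hx⟩ := x
  induction hx using Subgroup.closure_induction with
  | mem y hy =>
    obtain ⟨g, hg, rfl⟩ := hy
    exact ⟨gen g, fun p => by rw [actF_gen hg]; exact proj_genC g p⟩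
  | one => exact ⟨1, fun p => by rw [map_one]; rfl⟩
  | mul a b _ _ ha hb =>
    obtain ⟨h, e⟩ := ha
    obtain ⟨h', e'⟩ := hb
    exact ⟨h * h', fun p => by
      show proj (a (b p)) = _
      rw [e, e', map_mul, Equiv.Perm.mul_apply]⟩
  | inv a _ ha =>
    obtain ⟨h, e⟩ := ha
    exact ⟨h⁻¹, fun p => by
      show proj (a⁻¹ p) = _
      rw [map_inv, Equiv.Perm.eq_inv_iff_eq, ← e]
      show proj (a (a⁻¹ p)) = proj p
      rw [← Equiv.Perm.mul_apply, mul_inv_cancel, Equiv.Perm.one_apply]⟩

/-- the map to Fi24 -/
noncomputable def down : GC →* Fi24 :=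
  MonoidHom.mk' (fun x => (exists_down x).choose) fun x y => by
    refine actF_injective (Equiv.ext fun q => ?_)
    obtain ⟨p, rfl⟩ := proj_surjective q
    rw [← (exists_down (x * y)).choose_spec p, map_mul, Equiv.Perm.mul_apply,
      ← (exists_down y).choose_spec p, ← (exists_down x).choose_spec]
    rfl

theorem down_eq {x : GC} {h : Fi24} (e : ∀ p, proj (x.1 p) = actF h (proj p)) : down x = h := by
  refine actF_injective (Equiv.ext fun q => ?_)
  obtain ⟨p, rfl⟩ := proj_surjective q
  rw [← e p]
  exact ((exists_down x).choose_spec p).symm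

/-- a generator in the extension -/
noncomputable def fC (g : ℕ) : GC := if h : g < 12 then ⟨genC g, genC_mem h⟩ else 1

theorem fC_coe (g : ℕ) : (fC g : Equiv.Perm XC) = genC g := by
  by_cases h : g < 12
  · rw [fC, dif_pos h]
  · rw [fC, dif_neg h, genC, if_neg (by omega), if_neg (by omega)]
    rfl

theorem down_fC {g : ℕ} (hg : g < 12) : down (fC g) = gen g :=
  down_eq fun p => by rw [fC_coe, actF_gen hg]; exact proj_genC g p

theorem down_surjective : Function.Surjective down := by
  intro x
  have hx : x ∈ Subgroup.closure {y : Fi24 | ∃ g < 12, gen g = y} := by rw [gen_top]; trivial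
  exact (Subgroup.closure_le down.range).mpr
    (by rintro y ⟨g, hg, rfl⟩; exact ⟨fC g, down_fC hg⟩) hx

theorem fC_top : Subgroup.closure {y : GC | ∃ g < 12, fC g = y} = ⊤ := by
  refine Subgroup.map_injective (Subgroup.subtype_injective GC) ?_
  rw [MonoidHom.map_closure, ← MonoidHom.range_eq_map, Subgroup.range_subtype]
  refine congrArg Subgroup.closure (Set.ext fun z => ⟨?_, ?_⟩)
  · rintro ⟨y, ⟨g, hg, rfl⟩, rfl⟩
    exact ⟨g, hg, (fC_coe g).symm⟩
  · rintro ⟨g, hg, rfl⟩
    exact ⟨fC g, ⟨g, hg, rfl⟩, fC_coe g⟩

theorem fC_word (w : List ℕ) : (prodW fC w : GC).1 = prodW genC w := by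
  rw [← Subgroup.subtype_apply, map_prodW]
  exact prodW_congr fun g _ => fC_coe g

/-- the rotation in the extension -/
noncomputable def rC : GC := ⟨rotP, rot_mem⟩

theorem rC_cube : rC ^ 3 = 1 := Subtype.ext (by
  rw [pow_succ, pow_two]
  exact rot_cube)

theorem rC_ne : rC ≠ 1 := fun h => rot_ne (congrArg Subtype.val h)

theorem rC_order : orderOf rC = 3 := by
  have : Fact (Nat.Prime 3) := ⟨Nat.prime_three⟩
  exact orderOf_eq_prime rC_cube rC_ne

theorem fC_rot {g : ℕ} (hg : g < 12) : fC g * rC * (fC g)⁻¹ = rC⁻¹ := Subtype.ext (by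
  show (fC g : Equiv.Perm XC) * rotP * (fC g : Equiv.Perm XC)⁻¹ = rotP⁻¹
  rw [fC_coe]
  exact genC_rot g hg)

theorem conj_rot (x : GC) : x * rC * x⁻¹ = rC ∨ x * rC * x⁻¹ = rC⁻¹ := by
  have hx : x ∈ Subgroup.closure {y : GC | ∃ g < 12, fC g = y} := by rw [fC_top]; trivial
  induction hx using Subgroup.closure_induction with
  | mem y hy => obtain ⟨g, hg, rfl⟩ := hy; exact Or.inr (fC_rot hg)
  | one => left; simp
  | mul a b _ _ ha hb =>
    rw [show a * b * rC * (a * b)⁻¹ = a * (b * rC * b⁻¹) * a⁻¹ by group]
    rcases hb with hb | hb <;> rw [hb]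
    · exact ha
    · rw [← conj_inv]
      rcases ha with ha | ha <;> rw [ha]
      · exact Or.inr rfl
      · exact Or.inl (inv_inv _)
  | inv a _ ha =>
    rcases ha with ha | ha
    · left
      conv_lhs => rw [← ha]
      group
    · right
      rw [← inv_inj, conj_inv, inv_inv]
      conv_lhs => rw [show rC⁻¹ = a * rC * a⁻¹ from ha.symm]
      group

/-- the subgroup of the rotations -/
noncomputable def NC : Subgroup GC := Subgroup.zpowers rC

instance NC_normal : NC.Normal where
  conj_mem n hn x := by
    obtain ⟨k, rfl⟩ := Subgroup.mem_zpowers_iff.mp hn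
    rw [← conj_zpow]
    rcases conj_rot x with h | h <;> rw [h]
    · exact Subgroup.zpow_mem _ (Subgroup.mem_zpowers _) k
    · exact Subgroup.zpow_mem _ (inv_mem (Subgroup.mem_zpowers _)) k

theorem rC_down : rC ∈ down.ker := by
  refine down_eq fun p => ?_
  rw [map_one]
  exact proj_rot p

theorem ker_down : down.ker = NC := by
  refine le_antisymm ?_ (Subgroup.zpowers_le.mpr rC_down)
  intro x hx
  let q := QuotientGroup.mk' NC
  have hf : M24.Rel24 fun g => q (fC g) := by
    have hinj : ∀ {a b : GC}, a.1 = b.1 → q a = q b := fun h => congrArg q (Subtype.ext h)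
    refine ⟨⟨⟨fun a ha => ?_, fun a ha b hb h => ?_, fun a ha b hb h => ?_⟩, fun g => ?_⟩, ?_⟩
    · rw [← map_mul, hinj (b := 1) (by rw [Subgroup.coe_mul, fC_coe]; exact genC_sq a), map_one]
    · show q (fC a) * q (fC b) = q (fC b) * q (fC a)
      rw [← map_mul, ← map_mul]
      exact hinj (by simp only [Subgroup.coe_mul, fC_coe]; exact (rel24C.cox.comm a ha b hb h).eq)
    · rw [← map_mul, ← map_mul, ← map_mul, ← map_mul]
      exact hinj (by simp only [Subgroup.coe_mul, fC_coe]; exact rel24C.cox.braid a ha b hb h)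
    · rw [← map_mul, hinj (b := 1) (by rw [Subgroup.coe_mul, fC_coe]; exact genC_sq g), map_one]
    · rw [← map_prodW]
      exact hinj (by rw [fC_coe, fC_word]; exact rel24C.ten)
  have htau : Commute (q (fC 11)) (prodW (fun g => q (fC g)) tauW) := by
    have h : q (prodW fC tauQ.reverse) = 1 := by
      refine (QuotientGroup.eq_one_iff _).mpr ?_
      rw [show prodW fC tauQ.reverse = rC from Subtype.ext ((fC_word _).trans tau_rot)]
      exact Subgroup.mem_zpowers _
    rw [map_prodW, hf.toCox24.prodW_rev, inv_eq_one, tauQ] at h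
    simp only [prodW_append, prodW_cons, prodW_nil, mul_one, hf.toCox24.prodW_rev] at h
    rw [mul_inv_eq_one] at h
    have hk := hf.sq 11
    show _ * _ = _ * _
    calc q (fC 11) * prodW (fun g => q (fC g)) tauW
        = q (fC 11) * prodW (fun g => q (fC g)) tauW * q (fC 11) * q (fC 11) := by
          rw [mul_assoc _ (q (fC 11)), hk, mul_one]
      _ = _ := by rw [h]
  obtain ⟨Φ, hΦ⟩ := exists_hom24 hf (M24.z_rel hf htau)
  have hΦd : Φ.comp down = q := by
    refine MonoidHom.eq_of_eqOn_dense fC_top ?_
    rintro y ⟨g, hg, rfl⟩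
    rw [MonoidHom.comp_apply, down_fC hg, hΦ g hg]
  have h := DFunLike.congr_fun hΦd x
  rw [MonoidHom.comp_apply, show down x = 1 from hx, map_one] at h
  exact (QuotientGroup.eq_one_iff x).mp h.symm

theorem comm_rot {x : GC} (hx : x ∈ commutator GC) : x * rC = rC * x := by
  have h : commutator GC ≤ Subgroup.centralizer {rC} := by
    rw [commutator_def, Subgroup.commutator_le]
    intro a _ b _
    rw [Subgroup.mem_centralizer_singleton_iff]
    suffices h : ⁅a, b⁆ * rC * ⁅a, b⁆⁻¹ = rC by
      exact (mul_inv_eq_iff_eq_mul.mp h)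
    have inv' : ∀ a : GC, ∀ r, (a * rC * a⁻¹ = r → a * rC⁻¹ * a⁻¹ = r⁻¹) := fun a r h => by rw [← conj_inv, h]
    have back : ∀ a : GC, (a * rC * a⁻¹ = rC → a⁻¹ * rC * a⁻¹⁻¹ = rC) ∧
        (a * rC * a⁻¹ = rC⁻¹ → a⁻¹ * rC * a⁻¹⁻¹ = rC⁻¹) := fun a => by
      refine ⟨fun h => ?_, fun h => ?_⟩
      · conv_lhs => rw [← h]
        group
      · rw [← inv_inj, conj_inv, inv_inv]
        conv_lhs => rw [show rC⁻¹ = a * rC * a⁻¹ from h.symm]
        group
    rw [commutatorElement_def, show a * b * a⁻¹ * b⁻¹ * rC * (a * b * a⁻¹ * b⁻¹)⁻¹ =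
      a * (b * (a⁻¹ * (b⁻¹ * rC * b⁻¹⁻¹) * a⁻¹⁻¹) * b⁻¹) * a⁻¹ by group]
    rcases conj_rot a with ha | ha <;> rcases conj_rot b with hb | hb
    · rw [(back b).1 hb, (back a).1 ha, hb, ha]
    · rw [(back b).2 hb, inv' _ _ ((back a).1 ha), inv' _ _ hb, inv_inv, ha]
    · rw [(back b).1 hb, (back a).2 ha, inv' _ _ hb, inv' _ _ ha, inv_inv]
    · rw [(back b).2 hb, inv' _ _ ((back a).2 ha), inv_inv, hb, inv' _ _ ha, inv_inv]
  exact Subgroup.mem_centralizer_singleton_iff.mp (h hx)

/-- the triple cover of Fi24' -/
abbrev Triple : Type := ↥(commutator GC)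

theorem rC_comm : rC ∈ commutator GC := by
  have h : ⁅fC 11, rC⁆ = rC := by
    rw [commutatorElement_def, fC_rot (by norm_num), ← mul_inv_rev, inv_eq_iff_mul_eq_one, ← rC_cube,
      pow_succ, pow_two]
  rw [← h, commutator_def]
  exact Subgroup.commutator_mem_commutator (Subgroup.mem_top _) (Subgroup.mem_top _)

/-- the map to Fi24' -/
noncomputable def downT : Triple →* Fi24' :=
  (down.comp (commutator GC).subtype).codRestrict _ fun x => by
    have hle : (commutator GC).map down ≤ commutator Fi24 := by
      rw [commutator_def, Subgroup.map_commutator, commutator_def]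
      exact Subgroup.commutator_mono le_top le_top
    exact hle (Subgroup.mem_map_of_mem down x.2)

theorem downT_surjective : Function.Surjective downT := fun y => by
  have e : (commutator GC).map down = commutator Fi24 := by
    rw [commutator_def, Subgroup.map_commutator, Subgroup.map_top_of_surjective down down_surjective,
      ← commutator_def]
  obtain ⟨x, hx, hxy⟩ := (e.symm ▸ y.2 : y.1 ∈ (commutator GC).map down)
  exact ⟨⟨x, hx⟩, Subtype.ext hxy⟩

/-- the rotation in the cover -/
noncomputable def rT : Triple := ⟨rC, rC_comm⟩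

theorem ker_downT : downT.ker = Subgroup.zpowers rT := by
  ext x
  have h : x ∈ downT.ker ↔ x.1 ∈ down.ker := by
    constructor
    · intro hx; exact congrArg Subtype.val (show downT x = 1 from hx)
    · intro hx; exact Subtype.ext hx
  rw [h, ker_down, NC, Subgroup.mem_zpowers_iff, Subgroup.mem_zpowers_iff]
  constructor
  · rintro ⟨k, e⟩; exact ⟨k, Subtype.ext ((SubgroupClass.coe_zpow rT k).trans e)⟩
  · rintro ⟨k, e⟩; exact ⟨k, (SubgroupClass.coe_zpow rT k).symm.trans (congrArg Subtype.val e)⟩

theorem rC_derived : rC ∈ ⁅commutator GC, commutator GC⁆ := by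
  set D := ⁅commutator GC, commutator GC⁆ with hD
  by_contra hr
  have hperf : commutator Fi24 = ⁅commutator Fi24, commutator Fi24⁆ := by
    haveI := Fi24Act.simple_ker
    have h := (inferInstance : (commutator par.ker).Normal).eq_bot_or_eq_top
    rcases h with h | h
    · exfalso
      have hcomm : ∀ a b : par.ker, a * b = b * a := fun a b => by
        have hm : ⁅a, b⁆ ∈ commutator par.ker := by
          rw [commutator_def]
          exact Subgroup.commutator_mem_commutator (Subgroup.mem_top a) (Subgroup.mem_top b)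
        rw [h, Subgroup.mem_bot] at hm
        exact (commutatorElement_eq_one_iff_commute.mp hm).eq
      letI : CommGroup par.ker := { (inferInstance : Group par.ker) with mul_comm := hcomm }
      have hp : (Nat.card par.ker).Prime := IsSimpleGroup.prime_card
      rw [card_ker] at hp
      exact Nat.not_prime_of_dvd_of_lt (show 2 ∣ _ by norm_num) le_rfl (by norm_num) hp
    · have := congrArg (Subgroup.map par.ker.subtype) h
      rw [Subgroup.map_subtype_commutator, ← MonoidHom.range_eq_map, Subgroup.range_subtype] at this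
      rw [commutator_eq, this]
  have hmap : D.map down = commutator Fi24 := by
    rw [hD, Subgroup.map_commutator, commutator_def, Subgroup.map_commutator,
      Subgroup.map_top_of_surjective down down_surjective, ← commutator_def, ← hperf]
  -- products of commuting generators lie in the second derived subgroup
  have key : ∀ a b, a < 12 → b < 12 → adjB a b = false → fC a * fC b ∈ D := by
    intro a b ha hb h
    have hab : down (fC a * fC b) ∈ commutator Fi24 := by
      rw [map_mul, down_fC ha, down_fC hb, commutator_eq, MonoidHom.mem_ker, map_mul, par_gen ha, par_gen hb]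
      decide
    rw [← hmap] at hab
    obtain ⟨d, hd, e⟩ := hab
    obtain ⟨k, hk⟩ := Subgroup.mem_zpowers_iff.mp (show d⁻¹ * (fC a * fC b) ∈ NC by
      rw [← ker_down, MonoidHom.mem_ker, map_mul, map_inv, e, inv_mul_cancel])
    have hx : fC a * fC b = d * rC ^ k := by rw [hk, mul_inv_cancel_left]
    have hsq : (fC a * fC b) * (fC a * fC b) = 1 := Subtype.ext (by
      simp only [Subgroup.coe_mul, fC_coe, OneMemClass.coe_one]
      rw [(rel24C.cox.comm a ha b hb h).symm.mul_mul_mul_comm, genC_sq, genC_sq, one_mul])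
    have hdc : Commute d rC := comm_rot (Subgroup.commutator_le_self _ hd)
    rw [hx, (hdc.zpow_right k).symm.mul_mul_mul_comm, ← zpow_add, ← two_mul] at hsq
    have h2 : rC ^ (2 * k) ∈ D := by
      rw [eq_inv_of_mul_eq_one_right hsq]; exact inv_mem (mul_mem hd hd)
    have h3 : (3 : ℤ) ∣ k := by
      by_contra h3
      refine hr ?_
      have hco : ∃ m n : ℤ, 2 * k * m + 3 * n = 1 := by
        rcases (show k % 3 = 1 ∨ k % 3 = 2 by omega) with h | h
        · exact ⟨2, (1 - 4 * k) / 3, by omega⟩
        · exact ⟨1, (1 - 2 * k) / 3, by omega⟩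
      obtain ⟨m, n, hmn⟩ := hco
      have e1 : (rC : GC) = (rC ^ (2 * k)) ^ m * (rC ^ (3 : ℤ)) ^ n := by
        rw [← zpow_mul, ← zpow_mul, ← zpow_add, hmn, zpow_one]
      rw [e1, show rC ^ (3 : ℤ) = 1 by exact_mod_cast rC_cube, one_zpow, mul_one]
      exact zpow_mem h2 m
    obtain ⟨m, rfl⟩ := h3
    rw [hx, zpow_mul, show rC ^ (3 : ℤ) = 1 by exact_mod_cast rC_cube, one_zpow, mul_one]
    exact hd
  have i10 : ∀ g < 12, fC g * fC g = 1 := fun g _ => Subtype.ext (by
    rw [Subgroup.coe_mul, fC_coe]; exact genC_sq g)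
  have hten : ∀ g < 12, fC g * fC 10 ∈ D := by
    intro g hg
    rcases Nat.lt_or_ge g 11 with h | h
    · exact key g 10 hg (by norm_num) ((by decide +kernel : ∀ g < 11, adjB g 10 = false) g h)
    · obtain rfl : g = 11 := by omega
      have e : fC 11 * fC 10 = (fC 11 * fC 1) * (fC 1 * fC 10) := by
        rw [mul_assoc (fC 11), ← mul_assoc (fC 1), i10 1 (by norm_num), one_mul]
      rw [e]
      exact mul_mem (key 11 1 (by norm_num) (by norm_num) rfl) (key 1 10 (by norm_num) (by norm_num) rfl)
  have hsplit : ∀ x : GC, x ∈ D ∨ x * fC 10 ∈ D := by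
    intro x
    have hx : x ∈ Subgroup.closure {y : GC | ∃ g < 12, fC g = y} := by rw [fC_top]; trivial
    have hflip : ∀ g < 12, fC 10 * fC g ∈ D := fun g hg => by
      have := inv_mem (hten g hg)
      rwa [mul_inv_rev, inv_eq_of_mul_eq_one_right (i10 g hg), inv_eq_of_mul_eq_one_right (i10 10 (by norm_num))]
        at this
    have step : ∀ x g, g < 12 → (x ∈ D ∨ x * fC 10 ∈ D) → (x * fC g ∈ D ∨ x * fC g * fC 10 ∈ D) := by
      intro x g hg h
      rcases h with h | h
      · exact Or.inr (by rw [mul_assoc]; exact mul_mem h (hten g hg))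
      · refine Or.inl ?_
        have := mul_mem h (hflip g hg)
        rwa [mul_assoc, ← mul_assoc (fC 10), i10 10 (by norm_num), one_mul] at this
    induction hx using Subgroup.closure_induction_right with
    | one => exact Or.inl (one_mem _)
    | mul_right x _ y hy ih => obtain ⟨g, hg, rfl⟩ := hy; exact step x g hg ih
    | mul_inv_cancel x _ y hy ih =>
      obtain ⟨g, hg, rfl⟩ := hy
      rw [inv_eq_of_mul_eq_one_right (i10 g hg)]
      exact step x g hg ih
  refine (hsplit rC).elim hr fun h => ?_
  have h1 := Subgroup.mem_map_of_mem down h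
  rw [hmap, map_mul, show down rC = 1 from rC_down, one_mul, down_fC (by norm_num), commutator_eq,
    MonoidHom.mem_ker, par_gen (by norm_num)] at h1
  exact absurd h1 (by decide)

theorem stem_triple : Cfsg.IsStemExtension downT := by
  refine ⟨downT_surjective, ?_, ?_⟩
  · rw [ker_downT, Subgroup.zpowers_le]
    exact Subgroup.mem_center_iff.2 fun g => Subtype.ext (comm_rot g.2)
  · rw [ker_downT, Subgroup.zpowers_le]
    have e : (commutator Triple).map (commutator GC).subtype = ⁅commutator GC, commutator GC⁆ :=
      Subgroup.map_subtype_commutator _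
    have h := e.symm ▸ rC_derived
    obtain ⟨x, hx, ex⟩ := h
    rwa [show x = rT from Subtype.ext ex] at hx

theorem ker_card : Nat.card downT.ker = 3 := by
  rw [ker_downT, Nat.card_zpowers, ← rC_order]
  exact (orderOf_injective (commutator GC).subtype (Subgroup.subtype_injective _) rT).symm

end CfsgLib.Fi24Mult.Cover
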