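import Cfsg.Agent.Lib.Fi24Mult.CoverPts

/-!
The stabilisers of the nine edges among the letters commuting with `k`, and their compatibility with the
chosen permutations of the fibre along the edges.
-/

set_option autoImplicit false

namespace CfsgLib.Fi24Mult.Cover

open CfsgLib.CosetEnum Cfsg.Spor CfsgLib.Fi24Pres CfsgLib.Fi24Act
open CfsgLib.Fi23Pres (certA setupA rho)

/-- the permutations of the fibre along the edges -/
def eta : Fin 9 → P3 :=
  ![Equiv.swap 1 2, Equiv.swap 1 2, Equiv.swap 1 2, Equiv.swap 1 2, Equiv.swap 1 2, Equiv.swap 1 2,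
    Equiv.swap 1 2, 1, Equiv.swap 0 2]

theorem eta_swap : ∀ (i : Fin 9) (e : Multiplicative (ZMod 2)), (i : ℕ) < 7 →
    sgnPerm e * eta i = eta i * sgnPerm e := by decide +kernel

/-- the subgroup fixing a point of Fi23 -/
noncomputable def fixPt (q : Pts) : Subgroup K :=
  (MulAction.stabilizer (Equiv.Perm Pts) q).comap (rho.comp (MonoidHom.fst Fi23 (Multiplicative (ZMod 2))))

theorem mem_fixPt {q : Pts} {u : K} : u ∈ fixPt q ↔ rho u.1 q = q := Iff.rfl

/-- the generated stabiliser of the seventh edge -/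
noncomputable def genSeven : Subgroup K :=
  Subgroup.closure {y | ∃ i < basicT.length, prodW genK (basicT.getD i []) = y}

/-- the stabilisers -/
noncomputable def stabT : Fin 9 → Subgroup K :=
  ![⊤, ⊤, ⊤, fixPt ptA, fixPt ptA, fixPt ptA, fixPt (edgePt [1, 0]), genSeven, fixPt (edgePt rho8)]

theorem card_genSeven : 45349632 ≤ Nat.card (genSeven.subgroupOf subRight) := by
  set T := genSeven.subgroupOf subRight
  let f : subRight →* Equiv.Perm Pts :=
    rho.comp ((MonoidHom.fst Fi23 (Multiplicative (ZMod 2))).comp subRight.subtype)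
  have hle : chainGroup setupA.complete setupA.action levelsT ≤ T.map f := by
    refine (Subgroup.closure_le _).mpr ?_
    rintro y ⟨w, hw, rfl⟩
    have hr : prodW genK w ∈ subRight := (chain_seven w hw).2
    have h7 : prodW genK w ∈ genSeven := by
      rw [chain_idx, List.mem_map] at hw
      obtain ⟨l, -, rfl⟩ := hw
      exact idxW_mem (fun i hi => Subgroup.subset_closure (k := {y | ∃ i < basicT.length,
        prodW genK (basicT.getD i []) = y}) ⟨i, hi, rfl⟩) l
    refine ⟨⟨prodW genK w, hr⟩, h7, ?_⟩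
    show rho (prodW genK w).1 = _
    have hlt := levelsT_lt
    simp only [idxOK, List.all_eq_true, Nat.blt_eq] at hlt
    rw [fst_prodW, map_prodW]
    exact prodW_congr fun g hg => setupA.rho_gen g (hlt w hw g hg)
  rw [← levelsT_size]
  exact ((chainSize_le setupA.complete setupA.action levelsT_ok).trans
    (Subgroup.card_le_of_le hle)).trans (Nat.card_le_card_of_surjective _ (f.subgroupMap_surjective T))

theorem stabT_fix (i : Fin 9) {u : K} (hu : u ∈ subRight) (h : u ∈ stabT i) : u ∈ fixEdge i := by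
  obtain ⟨i, hi⟩ := i
  interval_cases i
  · exact fix_small _ hu (Or.inl (by simp))
  · exact fix_small _ hu (Or.inl (by simp))
  · exact fix_small _ hu (Or.inl (by simp))
  · exact fix_small _ hu (Or.inr ⟨by simp, h⟩)
  · exact fix_small _ hu (Or.inr ⟨by simp, h⟩)
  · exact fix_small _ hu (Or.inr ⟨by simp, h⟩)
  · exact ⟨fix_two h, fix_two h⟩
  · refine (show genSeven ≤ fixEdge 7 from (Subgroup.closure_le _).mpr ?_) h
    rintro y ⟨j, hj, rfl⟩
    exact (basic_seven hj).1
  · refine ⟨fix_two h, ?_⟩
    have e8 : sigma8 = rho8 := by decide +kernel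
    show actK u (ptW target8 sigma8) = ptW target8 sigma8
    rw [e8]
    exact fix_two h

theorem stabT_index (i : Fin 9) : (stabT i).relIndex subRight ≤ orbLen i := by
  have hcl := edge_classes
  simp only [Bool.and_eq_true, Bool.or_eq_true] at hcl
  obtain ⟨⟨hA, h6⟩, h8⟩ := hcl
  obtain ⟨n3, n0, n12⟩ := class_numbers
  have hsmall : (fixPt ptA).relIndex subRight ≤ 28431 := by
    refine n3 ▸ relIndex_le ptA _ (fun u hu => ?_) fun u _ e => e
    simp only [inClasses, Finset.mem_filter, Finset.mem_univ, true_and]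
    rw [(right_zero hu ptA).2.mpr (Nat.eq_of_beq_eq_true hA)]
    rfl
  obtain ⟨i, hi⟩ := i
  interval_cases i
  · exact le_of_eq (Subgroup.relIndex_eq_one.mpr (show subRight ≤ ⊤ from le_top))
  · exact le_of_eq (Subgroup.relIndex_eq_one.mpr (show subRight ≤ ⊤ from le_top))
  · exact le_of_eq (Subgroup.relIndex_eq_one.mpr (show subRight ≤ ⊤ from le_top))
  · exact hsmall
  · exact hsmall
  · exact hsmall
  · show (fixPt (edgePt [1, 0])).relIndex subRight ≤ 1080
    refine (relIndex_le (edgePt [1, 0]) (inClasses fun c => Nat.beq c 0) (fun u hu => ?_)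
      (fun u _ e => e)).trans n0.le
    simp only [inClasses, Finset.mem_filter, Finset.mem_univ, true_and]
    rw [(right_zero hu _).1.mpr (by rw [edgePt_val]; exact Nat.eq_of_beq_eq_true h6)]
    rfl
  · show genSeven.relIndex subRight ≤ 218400
    have h := (genSeven.subgroupOf subRight).card_mul_index
    have hle : Nat.card (genSeven.subgroupOf subRight) * genSeven.relIndex subRight ≤ 45349632 * 218400 := by
      rw [Subgroup.relIndex, h]
      exact right_card_le
    exact Nat.le_of_mul_le_mul_left ((Nat.mul_le_mul_right _ card_genSeven).trans hle) (by norm_num)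
  · show (fixPt (edgePt rho8)).relIndex subRight ≤ 2160
    refine (relIndex_le (edgePt rho8) (inClasses fun c => Nat.beq c 1 || Nat.beq c 2) (fun u hu => ?_)
      (fun u _ e => e)).trans n12.le
    simp only [inClasses, Finset.mem_filter, Finset.mem_univ, true_and, Bool.or_eq_true]
    have hz := right_zero hu (edgePt rho8)
    have hlt := clsOf_lt (rho u.1 (edgePt rho8) : ℕ)
    have hne : clsOf (edgePt rho8 : ℕ) ≠ 0 ∧ clsOf (edgePt rho8 : ℕ) ≠ 3 := by
      rw [edgePt_val]
      cases of_decide_eq_true h8 with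
      | inl h' => rw [Nat.eq_of_beq_eq_true h']; decide
      | inr h' => rw [Nat.eq_of_beq_eq_true h']; decide
    have h0 : clsOf (rho u.1 (edgePt rho8) : ℕ) ≠ 0 := fun e => hne.1 (hz.1.mp e)
    have h3 : clsOf (rho u.1 (edgePt rho8) : ℕ) ≠ 3 := fun e => hne.2 (hz.2.mp e)
    generalize clsOf (rho u.1 (edgePt rho8) : ℕ) = c at hlt h0 h3 ⊢
    interval_cases c <;> simp_all

/-- By counting, nothing else fixes an edge. -/
theorem fix_le (i : Fin 9) : fixEdge i ⊓ subRight ≤ stabT i := by
  let D : Type := Σ i : Fin 9, subRight ⧸ (stabT i).subgroupOf subRight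
  let f : D → X := fun d => actK d.2.out.1 (src d.1)
  have fmk : ∀ (i : Fin 9) (u : subRight), f ⟨i, QuotientGroup.mk u⟩ = actK u.1 (src i) := fun i u => by
    obtain ⟨h, e⟩ := QuotientGroup.mk_out_eq_mul ((stabT i).subgroupOf subRight) u
    simp only [f, e, Subgroup.coe_mul, map_mul, Equiv.Perm.mul_apply]
    rw [show actK (h.1 : K) (src i) = src i from (mem_fixEdge.mp (stabT_fix i h.1.2 h.2)).1]
  have hsurj : Function.Surjective f := fun p => by
    obtain ⟨⟨j, q⟩, rfl⟩ := srcAt_surjective p
    exact ⟨⟨j, QuotientGroup.mk q.out⟩, fmk j q.out⟩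
  have : Finite K := inferInstance
  have hD : Nat.card D ≤ 306936 := by
    rw [Nat.card_sigma]
    calc (∑ i : Fin 9, Nat.card (subRight ⧸ (stabT i).subgroupOf subRight))
        ≤ ∑ i : Fin 9, orbLen i := Finset.sum_le_sum fun i _ => stabT_index i
      _ = 306936 := by decide
  have hbij : Function.Bijective f :=
    (Nat.bijective_iff_surjective_and_card f).mpr
      ⟨hsurj, le_antisymm (hD.trans card_X.ge) (Nat.card_le_card_of_surjective f hsurj)⟩
  rintro u ⟨hu, hur⟩
  have h : f ⟨i, QuotientGroup.mk ⟨u, hur⟩⟩ = f ⟨i, QuotientGroup.mk 1⟩ := by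
    rw [fmk, fmk, OneMemClass.coe_one, map_one, Equiv.Perm.one_apply]
    exact (mem_fixEdge.mp hu).1
  have h2 := hbij.1 h
  rw [Sigma.mk.injEq, heq_eq_eq, QuotientGroup.eq, mul_one, inv_mem_iff] at h2
  exact h2.2

/-- the two coordinate changes at an edge agree -/
def Compat (i : Fin 9) (u : K) : Prop :=
  piS (kind (edge i).t) (prodW genK (edge i).sigma * u * (prodW genK (edge i).sigma)⁻¹) * eta i =
    eta i * piS (kind (edge i).s) (prodW genK (edge i).rho * u * (prodW genK (edge i).rho)⁻¹)

theorem fix_conj {u : K} {s : ℕ} {r : List ℕ} (h : actK u (ptW s r) = ptW s r) :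
    prodW genK r * u * (prodW genK r)⁻¹ ∈ subS (kind s) := by
  rw [ptW, actK_ptK, ptK_eq] at h
  have := inv_mem h
  simpa only [mul_inv_rev, inv_inv, mul_assoc] using this

theorem compat_comm {i : Fin 9} {u : K} (hi : (i : ℕ) < 7) (hu : u ∈ subRight)
    (h1 : prodW genK (edge i).rho * u * (prodW genK (edge i).rho)⁻¹ = u)
    (h2 : prodW genK (edge i).sigma * u * (prodW genK (edge i).sigma)⁻¹ = u) : Compat i u := by
  rw [Compat, h1, h2, piS_right hu, piS_right hu, eta_swap i _ hi]

theorem conj_self {a u : K} (h : Commute a u) : a * u * a⁻¹ = u := by rw [h.eq, mul_inv_cancel_right]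

theorem even_of_class {u : K} (hu : u ∈ subRight) {q : Pts} (hq : rho u.1 q = q)
    (hc : clsOf (q : ℕ) = 1 ∨ clsOf (q : ℕ) = 2) : u.2 = 1 := by
  obtain ⟨σ, h, h0, hs⟩ := right_classes hu
  have e := h q
  rw [hq] at e
  have key : ∀ (σ : P3) (c : ℕ) (x : Multiplicative (ZMod 2)), c = 1 ∨ c = 2 → σ 0 = 0 →
      signZ x = Equiv.Perm.sign σ → c = extP σ c → x = 1 := by
    intro σ c x hc h0 hs
    revert hs h0
    rcases hc with rfl | rfl <;> revert x σ <;> decide +kernel
  exact key σ _ _ hc h0 hs e

theorem piS_stab {h : K} {st : List ℕ} {cls : ℕ} (hh : h = prodW genK (stabW transW 1 st cls))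
    (hok : stabOK transW 1 st cls = true) :
    piS 1 h = sgnPerm (Multiplicative.ofAdd (st.length : ZMod 2)) *
      ([1, Equiv.swap 0 1, Equiv.swap 0 1 * Equiv.swap 1 2] : List P3).getD cls 1 := by
  simp only [stabOK, Bool.and_eq_true, Nat.blt_eq] at hok
  have hr := right_mem hok.1
  have hr1 : prodW genK st ∈ subS 1 := right_le_S1 hr
  have hlt : cls < 3 := hok.2
  have ht : prodW genK (transW.getD cls []) ∈ subS 1 ∧
      piS 1 (prodW genK (transW.getD cls [])) =
        ([1, Equiv.swap 0 1, Equiv.swap 0 1 * Equiv.swap 1 2] : List P3).getD cls 1 := by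
    interval_cases cls
    · simp [transW, piS_one]
    · exact ⟨tau_mem, piS_one_eq tau_permutes⟩
    · have hb : prodW genK [1] ∈ subRight := right_mem (by decide +kernel)
      have e2 : transW.getD 2 [] = tauW ++ [1] := rfl
      rw [e2, prodW_append]
      refine ⟨mul_mem tau_mem (right_le_S1 hb), ?_⟩
      rw [piS_mul (s := 1) tau_mem (right_le_S1 hb), piS_one_eq tau_permutes, piS_right hb, prodW_genK]
      rfl
  rw [hh, stabW, if_pos rfl, prodW_append, piS_mul hr1 ht.1, ht.2, piS_right hr, prodW_genK]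

/-- the coordinate change of a witness, computed -/
def witP (s : ℕ) (st : List ℕ) (cls : ℕ) : P3 :=
  sgnPerm (Multiplicative.ofAdd (st.length : ZMod 2)) *
    if s = 1 then ([1, Equiv.swap 0 1, Equiv.swap 0 1 * Equiv.swap 1 2] : List P3).getD cls 1 else 1

theorem piS_witP {s : ℕ} {st : List ℕ} {cls : ℕ} (hok : stabOK transW s st cls = true) :
    piS (kind s) (prodW genK (stabW transW s st cls)) = witP s st cls := by
  match s, hok with
  | 0, _ =>
    rw [piS_other (by decide), stabW, if_neg (by norm_num), witP, if_neg (by norm_num), mul_one,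
      prodW_genK]
  | 1, hok => rw [witP, if_pos rfl, show kind 1 = 1 from rfl, piS_stab rfl hok]
  | 2, _ =>
    rw [piS_other (by decide), stabW, if_neg (by norm_num), witP, if_neg (by norm_num), mul_one,
      prodW_genK]
  | n + 3, hok => simp [stabOK] at hok

theorem seven_table : ((List.range basicT.length).all fun j =>
    decide (witP fact7.t (witB.getD j ([], 0)).1 (witB.getD j ([], 0)).2 * eta 7 =
      eta 7 * witP fact7.s (witA.getD j ([], 0)).1 (witA.getD j ([], 0)).2)) = true := by decide +kernel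

theorem compat_seven {u : K} (hu : u ∈ genSeven) (hur : u ∈ subRight) : Compat 7 u := by
  suffices h : (prodW genK fact7.rho * u * (prodW genK fact7.rho)⁻¹ ∈ subS (kind fact7.s) ∧
      prodW genK fact7.sigma * u * (prodW genK fact7.sigma)⁻¹ ∈ subS (kind fact7.t)) ∧
      piS (kind fact7.t) (prodW genK fact7.sigma * u * (prodW genK fact7.sigma)⁻¹) * eta 7 =
        eta 7 * piS (kind fact7.s) (prodW genK fact7.rho * u * (prodW genK fact7.rho)⁻¹) from h.2
  clear hur
  set A := prodW genK fact7.rho
  set B := prodW genK fact7.sigma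
  induction hu using Subgroup.closure_induction with
  | mem y hy =>
    obtain ⟨j, hj, rfl⟩ := hy
    have h := genT_ok
    simp only [List.all_eq_true, List.mem_range, genTOK, Bool.and_eq_true] at h
    obtain ⟨ha, hb⟩ := h j hj
    have ht := seven_table
    simp only [List.all_eq_true, List.mem_range, decide_eq_true_eq] at ht
    have conj : ∀ {s : ℕ} {r w : List ℕ} {d : List ℕ × ℕ}, fixOK s r w d = true →
        (prodW genK r * prodW genK w * (prodW genK r)⁻¹ ∈ subS (kind s)) ∧
          piS (kind s) (prodW genK r * prodW genK w * (prodW genK r)⁻¹) = (witP s d.1 d.2)⁻¹ := by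
      intro s r w d hd
      simp only [fixOK, Bool.and_eq_true] at hd
      have e := eqK_spec hd.2
      rw [prodW_append, prodW_append, ← prodW_genK_inv] at e
      have e' : prodW genK r * prodW genK w * (prodW genK r)⁻¹ = (prodW genK (stabW transW s d.1 d.2))⁻¹ := by
        rw [eq_inv_iff_mul_eq_one, ← mul_inv_eq_iff_eq_mul.mpr e]
        group
      rw [e']
      exact ⟨inv_mem (stab_subS hd.1.2), by rw [piS_inv (stab_subS hd.1.2), piS_witP hd.1.2]⟩
    obtain ⟨a1, a2⟩ := conj ha
    obtain ⟨b1, b2⟩ := conj hb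
    refine ⟨⟨a1, b1⟩, ?_⟩
    rw [a2, b2, inv_mul_eq_iff_eq_mul, ← mul_assoc, eq_mul_inv_iff_mul_eq]
    exact (ht j hj).symm
  | one =>
    refine ⟨⟨by simp, by simp⟩, ?_⟩
    simp [piS_one]
  | mul a b _ _ ha hb =>
    have e1 : A * (a * b) * A⁻¹ = (A * a * A⁻¹) * (A * b * A⁻¹) := by group
    have e2 : B * (a * b) * B⁻¹ = (B * a * B⁻¹) * (B * b * B⁻¹) := by group
    rw [e1, e2]
    refine ⟨⟨mul_mem ha.1.1 hb.1.1, mul_mem ha.1.2 hb.1.2⟩, ?_⟩
    rw [piS_mul ha.1.2 hb.1.2, piS_mul ha.1.1 hb.1.1, mul_assoc, hb.2, ← mul_assoc, ha.2, mul_assoc]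
  | inv a _ ha =>
    rw [← conj_inv, ← conj_inv]
    refine ⟨⟨inv_mem ha.1.1, inv_mem ha.1.2⟩, ?_⟩
    rw [piS_inv ha.1.1, piS_inv ha.1.2, inv_mul_eq_iff_eq_mul, ← mul_assoc, eq_mul_inv_iff_mul_eq]
    exact ha.2.symm

theorem compat (i : Fin 9) {u : K} (hu : u ∈ subRight) (hf : u ∈ fixEdge i) : Compat i u := by
  have hT := fix_le i ⟨hf, hu⟩
  obtain ⟨h1, h2⟩ := mem_fixEdge.mp hf
  have hc10 : Commute (prodW genK [10]) u := by simpa using ten_central u
  have nil : prodW genK [] * u * (prodW genK [])⁻¹ = u := by simp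
  obtain ⟨i, hi⟩ := i
  interval_cases i
  · exact compat_comm (by simp) hu nil nil
  · exact compat_comm (by simp) hu nil nil
  · exact compat_comm (by simp) hu (conj_self hc10) (conj_self hc10)
  · have hc0 : Commute (prodW genK [0]) u := by simpa using (fix_comm_zero hT).symm
    exact compat_comm (by simp) hu (conj_self hc0) (conj_self hc0)
  · have hc : Commute (prodW genK [10, 0]) u := by
      rw [prodW_cons, prodW_cons, prodW_nil, mul_one]
      exact (ten_central u).mul_left (fix_comm_zero hT).symm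
    exact compat_comm (by simp) hu (conj_self hc) nil
  · have hc : Commute (prodW genK [10, 0]) u := by
      rw [prodW_cons, prodW_cons, prodW_nil, mul_one]
      exact (ten_central u).mul_left (fix_comm_zero hT).symm
    exact compat_comm (by simp) hu nil (conj_self hc)
  · show piS 2 _ * _ = _ * piS 2 _
    rw [piS_other (by decide), piS_other (by decide), eta_swap _ _ (by simp)]
    rfl
  · exact compat_seven hT hu
  · show piS 2 _ * _ = _ * piS 2 _
    have e8 : sigma8 = rho8 := by decide +kernel
    rw [piS_other (by decide), piS_other (by decide)]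
    show sgnPerm (prodW genK sigma8 * u * (prodW genK sigma8)⁻¹).2 * _ =
      _ * sgnPerm (prodW genK rho8 * u * (prodW genK rho8)⁻¹).2
    have hev : u.2 = 1 := even_of_class hu hT (by
      have h := edge_classes
      simp only [Bool.and_eq_true, Bool.or_eq_true] at h
      rw [edgePt_val]
      exact (of_decide_eq_true h.2).imp Nat.eq_of_beq_eq_true Nat.eq_of_beq_eq_true)
    simp [Prod.snd_mul, hev, sgnPerm]

end CfsgLib.Fi24Mult.Cover
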