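import Cfsg.Agent.Lib.Fi24Mult.CoverEdges
import Cfsg.Agent.Lib.Fi24Act.Rel

/-!
The letter `k` on the cover, walks, and the values of the loops.
-/

set_option autoImplicit false

namespace CfsgLib.Fi24Mult.Cover

open CfsgLib.CosetEnum Cfsg.Spor CfsgLib.Fi24Pres CfsgLib.Fi24Act

/-- the point of the cover of a kind and a word -/
noncomputable def ptWC (s : ℕ) (h : List ℕ) (j : Fin 3) : XC := ptC (kind s) (prodW genK h) j

theorem proj_ptWC (s : ℕ) (h : List ℕ) (j : Fin 3) : proj (ptWC s h j) = ptW s h := rfl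

/-- the source of an edge with a coordinate -/
noncomputable def srcC (i : Fin 9) (j : Fin 3) : XC := ptWC (edge i).s (edge i).rho j

/-- the target -/
noncomputable def dstC (i : Fin 9) (j : Fin 3) : XC := ptWC (edge i).t (edge i).sigma j

theorem exists_coord (p : XC) : ∃ (i : Fin 9) (u : subRight) (j : Fin 3), p = actC u.1 (srcC i j) := by
  obtain ⟨⟨i, q⟩, hq⟩ := srcAt_surjective (proj p)
  have e : proj (actC q.out.1⁻¹ p) = src i := by
    rw [proj_act, ← hq, srcAt, ← Equiv.Perm.mul_apply, ← map_mul, inv_mul_cancel, map_one,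
      Equiv.Perm.one_apply]
  obtain ⟨j, hj⟩ := fibre_over (s := kind (edge i).s) (x := prodW genK (edge i).rho) e
  refine ⟨i, q.out, j, ?_⟩
  show p = actC q.out.1 (ptC _ _ j)
  rw [← hj, ← Equiv.Perm.mul_apply, ← map_mul, mul_inv_cancel, map_one, Equiv.Perm.one_apply]

theorem coord_unique {i i' : Fin 9} {u u' : K} (hu : u ∈ subRight) (hu' : u' ∈ subRight) {j j' : Fin 3}
    (h : actC u (srcC i j) = actC u' (srcC i' j')) :
    actC u (dstC i (eta i j)) = actC u' (dstC i' (eta i' j')) := by
  have h1 := congrArg proj h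
  rw [proj_act, proj_act] at h1
  have h2 : srcAt ⟨i, QuotientGroup.mk ⟨u, hu⟩⟩ = srcAt ⟨i', QuotientGroup.mk ⟨u', hu'⟩⟩ := by
    rw [srcAt_mk, srcAt_mk]; exact h1
  have h3 := srcAt_bijective.1 h2
  obtain rfl : i = i' := congrArg Sigma.fst h3
  rw [Sigma.mk.injEq, heq_eq_eq, QuotientGroup.eq] at h3
  have hh : u⁻¹ * u' ∈ fixEdge i := h3.2
  have hr : u⁻¹ * u' ∈ subRight := mul_mem (inv_mem hu) hu'
  obtain ⟨hs, hd⟩ := mem_fixEdge.mp hh
  have hc := compat i hr hh
  obtain ⟨e, he⟩ : ∃ e, e = u⁻¹ * u' := ⟨_, rfl⟩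
  rw [← he] at hs hd hc
  have hu'' : u' = u * e := by rw [he, mul_inv_cancel_left]
  rw [hu'', map_mul, Equiv.Perm.mul_apply] at h ⊢
  have h4 := (actC u).injective h
  refine congrArg (actC u) ?_
  have hS := fix_conj hs
  have hT := fix_conj hd
  simp only [srcC, dstC, ptWC, actC_ptC] at h4 ⊢
  rw [ptC_eq] at h4 ⊢
  have q1 : ∀ a : K, a * (a * e⁻¹)⁻¹ = a * e * a⁻¹ := fun a => by group
  rw [q1] at h4 ⊢
  refine ⟨hT, ?_⟩
  rw [← h4.2, ← Equiv.Perm.mul_apply, ← Equiv.Perm.mul_apply]
  exact congrArg (fun σ : P3 => σ j') hc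

/-- `k` on the cover -/
noncomputable def kC (p : XC) : XC :=
  actC (exists_coord p).choose_spec.choose.1
    (dstC (exists_coord p).choose (eta (exists_coord p).choose (exists_coord p).choose_spec.choose_spec.choose))

theorem kC_src (i : Fin 9) {u : K} (hu : u ∈ subRight) (j : Fin 3) :
    kC (actC u (srcC i j)) = actC u (dstC i (eta i j)) :=
  (coord_unique hu (exists_coord (actC u (srcC i j))).choose_spec.choose.2
    (exists_coord (actC u (srcC i j))).choose_spec.choose_spec.choose_spec).symm

theorem kC_comm {u : K} (hu : u ∈ subRight) (p : XC) : kC (actC u p) = actC u (kC p) := by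
  obtain ⟨i, v, j, rfl⟩ := exists_coord p
  rw [← Equiv.Perm.mul_apply, ← map_mul, kC_src i (mul_mem hu v.2), kC_src i v.2, map_mul,
    Equiv.Perm.mul_apply]

theorem kC_proj (p : XC) : proj (kC p) = kFun (proj p) := by
  obtain ⟨i, v, j, rfl⟩ := exists_coord p
  rw [kC_src i v.2, proj_act, proj_act]
  exact (kFun_src i v.2).symm

/-! ### Walks -/

/-- one letter -/
noncomputable def stepC (g : ℕ) : XC → XC :=
  if g < 11 then fun p => actC (genK g) p else if g = 11 then kC else fun p => p

/-- a word, read from the left -/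
noncomputable def appC (Q : List ℕ) (p : XC) : XC := Q.foldl (fun p g => stepC g p) p

theorem appC_cons (g : ℕ) (Q : List ℕ) (p : XC) : appC (g :: Q) p = appC Q (stepC g p) := rfl

theorem appC_append (Q R : List ℕ) (p : XC) : appC (Q ++ R) p = appC R (appC Q p) := by
  simp [appC, List.foldl_append]

theorem actC_ptWC (g s : ℕ) (h : List ℕ) (j : Fin 3) : actC (genK g) (ptWC s h j) = ptWC s (h ++ [g]) j := by
  rw [ptWC, ptWC, actC_ptC, Fi24Act.genK_inv, prodW_append, prodW_cons, prodW_nil, mul_one]

theorem ptWC_shift (s : ℕ) (h u : List ℕ) (j : Fin 3) :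
    ptWC s (h ++ u) j = actC (prodW genK u)⁻¹ (ptWC s h j) := by
  rw [ptWC, ptWC, actC_ptC, inv_inv, prodW_append]

theorem ptWC_eq {s : ℕ} {h h' st : List ℕ} {cls : ℕ} (he : eqK h (stabW transW s st cls ++ h') = true)
    (hs : stabOK transW s st cls = true) (j : Fin 3) :
    ptWC s h j = ptWC s h' ((witP s st cls)⁻¹ j) := by
  rw [ptWC, ptWC, ptC_eq, eqK_spec he, prodW_append, mul_inv_cancel_right]
  refine ⟨stab_subS hs, ?_⟩
  rw [piS_witP hs, ← Equiv.Perm.mul_apply, mul_inv_cancel, Equiv.Perm.one_apply]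

/-- the change of the coordinate along a walk -/
noncomputable def fibW : List ℕ → ℕ → List Wit → P3
  | [], _, _ => 1
  | g :: Q, s, ws =>
    if Nat.blt g 11 then fibW Q s ws
    else match ws with
      | [] => 1
      | w :: ws => match edgeList[w.id]? with
        | none => 1
        | some f => if h : w.id < 9 then fibW Q f.t ws * (eta ⟨w.id, h⟩ * (witP s w.st w.cls)⁻¹) else 1

theorem walk_C : ∀ {Q : List ℕ} {s : ℕ} {h : List ℕ} {ws : List Wit} {t : ℕ} {h' : List ℕ},
    walk edgeList transW Q s h ws = some (t, h') → ∀ j : Fin 3,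
      appC Q (ptWC s h j) = ptWC t h' (fibW Q s ws j)
  | [], s, h, ws, t, h', e, j => by
    simp only [walk, Option.some.injEq, Prod.mk.injEq] at e
    obtain ⟨rfl, rfl⟩ := e
    rfl
  | g :: Q, s, h, ws, t, h', e, j => by
    rw [walk.eq_def] at e
    dsimp only at e
    rw [appC_cons, fibW.eq_def]
    dsimp only
    split at e
    · rename_i hg
      rw [if_pos hg]
      rw [Nat.blt_eq] at hg
      rw [stepC, if_pos hg, actC_ptWC]
      exact walk_C e j
    · rename_i hg
      rw [if_neg hg]
      split at e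
      · rename_i hg11
        obtain rfl := Nat.eq_of_beq_eq_true hg11
        rw [stepC, if_neg (by norm_num), if_pos rfl]
        cases ws with
        | nil => simp at e
        | cons w ws =>
          dsimp only at e ⊢
          cases hk : kStep edgeList transW s h w with
          | none => simp [hk] at e
          | some q =>
            obtain ⟨t1, h1⟩ := q
            simp only [hk] at e
            unfold kStep at hk
            cases hfw : edgeList[w.id]? with
            | none => simp [hfw] at hk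
            | some f =>
              obtain ⟨hi, hf⟩ := edgeList_get hfw
              rw [hfw] at hk
              dsimp only at hk ⊢
              rw [dif_pos hi]
              split at hk
              · rename_i hcond
                simp only [Bool.and_eq_true] at hcond
                obtain ⟨⟨⟨⟨⟨hfs, hst⟩, hu⟩, -⟩, -⟩, heq⟩ := hcond
                obtain rfl := Nat.eq_of_beq_eq_true hfs
                simp only [Option.some.injEq, Prod.mk.injEq] at hk
                obtain ⟨rfl, rfl⟩ := hk
                rw [ptWC_eq heq hst, ptWC_shift]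
                have hmem : (prodW genK w.u)⁻¹ ∈ subRight := inv_mem (right_mem hu)
                have h1 := kC_src ⟨w.id, hi⟩ hmem ((witP f.s w.st w.cls)⁻¹ j)
                rw [srcC, dstC, hf] at h1
                rw [h1, ← ptWC_shift, walk_C e, Equiv.Perm.mul_apply, Equiv.Perm.mul_apply]
              · simp at hk
      · simp at e

/-- the change of the coordinate around a loop -/
noncomputable def loopFib (Q : List ℕ) (s : ℕ) (w : LoopWit) : P3 :=
  (witP s w.st w.cls)⁻¹ * fibW Q s w.ws

theorem loop_C {Q : List ℕ} {s : ℕ} {h : List ℕ} {w : LoopWit} (e : loopOK Q s h w = true) (j : Fin 3) :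
    appC Q (ptWC s h j) = ptWC s h (loopFib Q s w j) := by
  simp only [loopOK, Bool.and_eq_true] at e
  obtain ⟨-, e⟩ := e
  cases hw : walk edgeList transW Q s h w.ws with
  | none => simp [hw] at e
  | some q =>
    obtain ⟨t, h'⟩ := q
    simp only [hw, Bool.and_eq_true] at e
    obtain rfl := Nat.eq_of_beq_eq_true e.1.1
    rw [walk_C hw, ptWC_eq e.2 e.1.2, loopFib, Equiv.Perm.mul_apply]

/-- the change of the coordinate around a loop at an edge -/
noncomputable def edgeFib (Q : List ℕ) (i : ℕ) (w : LoopWit) : P3 :=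
  match edgeList[i]? with
  | some f => loopFib Q f.s w
  | none => 1

theorem loopFrom_C {Q v : List ℕ} {i : Fin 9} {w : LoopWit} (e : loopFrom Q i v w = true) (j : Fin 3) :
    appC Q (ptWC (edge i).s ((edge i).rho ++ v) j) =
      ptWC (edge i).s ((edge i).rho ++ v) (edgeFib Q i w j) := by
  unfold loopFrom at e
  unfold edgeFib
  cases hf : edgeList[(i : ℕ)]? with
  | none => simp [hf] at e
  | some f =>
    rw [hf] at e
    obtain ⟨_, hfe⟩ := edgeList_get hf
    have hfe' : edge i = f := hfe
    dsimp only at e ⊢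
    rw [hfe']
    exact loop_C e j

theorem sq_fib : ((List.range 9).all fun i =>
    decide (edgeFib sqQ i (sqLoops.getD i ⟨[], [], 0⟩) = 1)) = true := by decide +kernel

theorem ten_fib : ((List.range 9).all fun i =>
    decide (edgeFib tenQ i (tenLoops.getD i ⟨[], [], 0⟩) = 1)) = true := by decide +kernel

theorem zero_fib : ((List.range zeroStarts.length).all fun j =>
    decide (edgeFib zeroQ (zeroStarts.getD j (0, [])).1 (zeroLoops.getD j ⟨[], [], 0⟩) = 1)) = true := by
  decide +kernel

/-- the parity at a start of a loop of `tau` -/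
noncomputable def startPar (j : ℕ) : Multiplicative (ZMod 2) :=
  match edgeList[j / 2]? with
  | some f => Multiplicative.ofAdd (((f.rho ++ if j % 2 = 0 then [] else [1]).length : ℕ) : ZMod 2)
  | none => 1

theorem tau_fib : ((List.range 18).all fun j =>
    decide (edgeFib tauQ (j / 2) (tauLoops.getD j ⟨[], [], 0⟩) = rotE (startPar j))) = true := by
  decide +kernel

theorem appC_comm {Q : List ℕ} {c : K} (hc : ∀ g ∈ Q, ∀ p, stepC g (actC c p) = actC c (stepC g p))
    (p : XC) : appC Q (actC c p) = actC c (appC Q p) := by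
  induction Q generalizing p with
  | nil => rfl
  | cons g Q ih =>
    rw [List.forall_mem_cons] at hc
    rw [appC_cons, appC_cons, hc.1, ih hc.2]

theorem stepC_k {c : K} (hc : c ∈ subRight) (p : XC) : stepC 11 (actC c p) = actC c (stepC 11 p) := by
  rw [stepC, if_neg (by norm_num), if_pos rfl]
  exact kC_comm hc p

theorem stepC_letter {c : K} {g : ℕ} (hg : g < 11) (hc : Commute (genK g) c) (p : XC) :
    stepC g (actC c p) = actC c (stepC g p) := by
  rw [stepC, if_pos hg, ← Equiv.Perm.mul_apply, ← Equiv.Perm.mul_apply, ← map_mul, ← map_mul, hc.eq]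

theorem kC_kC (p : XC) : kC (kC p) = p := by
  obtain ⟨i, u, j, rfl⟩ := exists_coord p
  rw [kC_comm u.2, kC_comm u.2]
  refine congrArg _ ?_
  have h := sq_loops
  have h' := sq_fib
  simp only [List.all_eq_true, List.mem_range, decide_eq_true_eq] at h h'
  have e := loopFrom_C (h i i.2) j
  rw [List.append_nil, h' i i.2, Equiv.Perm.one_apply] at e
  exact e

theorem ten_fixC (p : XC) : appC tenQ p = p := by
  obtain ⟨i, u, j, rfl⟩ := exists_coord p
  have h := ten_loops
  have h' := ten_fib
  simp only [List.all_eq_true, List.mem_range, decide_eq_true_eq] at h h'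
  rw [appC_comm fun g hg q => by
    have hg' : g = 11 ∨ g = 10 := by
      simp only [tenQ, List.mem_cons, List.not_mem_nil, or_false] at hg
      omega
    rcases hg' with rfl | rfl
    · exact stepC_k u.2 q
    · exact stepC_letter (by norm_num) (ten_central u.1) q]
  refine congrArg _ ?_
  have e := loopFrom_C (h i i.2) j
  rw [List.append_nil, h' i i.2, Equiv.Perm.one_apply] at e
  exact e

theorem zero_fixC (p : XC) : appC zeroQ p = p := by
  obtain ⟨i, u, j, rfl⟩ := exists_coord p
  obtain ⟨v, hv, c, hc, hcA, e⟩ := split_all i u.2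
  -- the same splitting one level up
  obtain ⟨j', e'⟩ : ∃ j', actC u.1 (srcC i j) = actC c (ptWC (edge i).s ((edge i).rho ++ v.reverse) j') := by
    have e1 : proj (actC c⁻¹ (actC u.1 (srcC i j))) = ptW (edge i).s ((edge i).rho ++ v.reverse) := by
      rw [proj_act, proj_act, show proj (srcC i j) = src i from rfl, e, ← Equiv.Perm.mul_apply,
        ← map_mul, inv_mul_cancel, map_one, Equiv.Perm.one_apply, ptW_shift]
      rfl
    obtain ⟨j', hj'⟩ := fibre_over (s := kind (edge i).s) (x := prodW genK ((edge i).rho ++ v.reverse)) e1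
    refine ⟨j', ?_⟩
    show _ = actC c (ptC _ _ j')
    rw [← hj', ← Equiv.Perm.mul_apply (actC c), ← map_mul, mul_inv_cancel, map_one, Equiv.Perm.one_apply]
  rw [e', appC_comm fun g hg q => by
    have hg' : g = 11 ∨ g = 0 := by
      simp only [zeroQ, List.mem_cons, List.not_mem_nil, or_false] at hg
      omega
    rcases hg' with rfl | rfl
    · exact stepC_k hc q
    · exact stepC_letter (by norm_num) (fix_comm_zero hcA).symm q]
  refine congrArg _ ?_
  obtain ⟨n, hn, hne⟩ := List.getElem_of_mem hv
  have h := zero_loops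
  have h' := zero_fib
  simp only [List.all_eq_true, List.mem_range, decide_eq_true_eq] at h h'
  have a := h n hn
  have b := h' n hn
  rw [List.getD_eq_getElem _ _ hn, hne] at a b
  rw [loopFrom_C a, b, Equiv.Perm.one_apply]

attribute [local irreducible] tauW

theorem appC_letters : ∀ {w : List ℕ}, (∀ g ∈ w, g < 11) → ∀ p : XC,
    appC w p = actC (prodW genK w)⁻¹ p
  | [], _, p => by simp [appC]
  | g :: w, h, p => by
    rw [List.forall_mem_cons] at h
    rw [appC_cons, appC_letters h.2, stepC, if_pos h.1, ← Equiv.Perm.mul_apply, ← map_mul, prodW_cons,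
      mul_inv_rev, Fi24Act.genK_inv]

theorem appC_tau (q : XC) : appC tauQ q = actC tauK (kC (actC tauK⁻¹ (kC q))) := by
  have hk : ∀ p : XC, appC [11] p = kC p := fun p => by
    show stepC 11 p = kC p
    rw [stepC, if_neg (by norm_num), if_pos rfl]
  rw [tauQ, appC_append, appC_append, appC_append, hk, hk, appC_letters tau_lt,
    appC_letters (fun g hg => tau_lt g (List.mem_reverse.mp hg)), tau_rev, inv_inv]
  rfl

theorem subEven_even {w : K} (hw : w ∈ subEven) : w.2 = 1 := by
  induction hw using Subgroup.closure_induction with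
  | mem y hy =>
    obtain ⟨g, -, -, rfl | rfl⟩ := hy <;>
      exact (show Multiplicative.ofAdd (1 : ZMod 2) * Multiplicative.ofAdd 1 = 1 by decide)
  | one => rfl
  | mul a b _ _ ha hb => rw [Prod.snd_mul, ha, hb, one_mul]
  | inv a _ ha => rw [Prod.snd_inv, ha, inv_one]

theorem tau_value (p : XC) : appC tauQ p = rotP p := by
  obtain ⟨i, u, j, rfl⟩ := exists_coord p
  obtain ⟨w, hw, e, he⟩ : ∃ w ∈ subEven, ∃ e : Bool,
      u.1 = w * (prodW genK (if e then [1] else []))⁻¹ := by
    rcases even_or u.2 with h | h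
    · exact ⟨u.1, h, false, by simp⟩
    · exact ⟨u.1 * genK 1, h, true, by simp⟩
  rw [he, map_mul, Equiv.Perm.mul_apply, srcC, ← ptWC_shift]
  set v := (if e then [1] else [] : List ℕ) with hv
  set q := ptWC (edge i).s ((edge i).rho ++ v) j
  -- the value at the start
  have hq : appC tauQ q = rotP q := by
    have h := tau_loops
    have h' := tau_fib
    simp only [List.all_eq_true, List.mem_range, decide_eq_true_eq] at h h'
    have hi := i.2
    have hlt : 2 * (i : ℕ) + (if e then 1 else 0) < 18 := by split <;> omega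
    have a := h _ hlt
    have b := h' _ hlt
    have d2 : (2 * (i : ℕ) + if e then 1 else 0) / 2 = i := by split <;> omega
    have dv : (if (2 * (i : ℕ) + if e then 1 else 0) % 2 = 0 then [] else [1] : List ℕ) = v := by
      cases e <;> simp [hv, Nat.mul_add_mod]
    rw [d2, dv] at a
    rw [d2] at b
    rw [show q = ptWC (edge i).s ((edge i).rho ++ v) j from rfl, loopFrom_C a, b, startPar, d2, dv]
    have hf : edgeList[(i : ℕ)]? = some (edge i) := by
      have hlen : edgeList.length = 9 := rfl
      have hi' : (i : ℕ) < edgeList.length := by omega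
      rw [List.getElem?_eq_getElem hi']
      exact congrArg some (List.getD_eq_getElem edgeList ⟨0, [], 0, []⟩ hi').symm
    rw [hf]
    dsimp only
    rw [ptWC, ptWC, rotP_ptC, prodW_genK]
  rw [appC_tau, kC_comm (even_le hw), ← Equiv.Perm.mul_apply (actC tauK⁻¹), ← map_mul,
    show tauK⁻¹ * w = (tauK⁻¹ * w * tauK) * tauK⁻¹ by group, map_mul, Equiv.Perm.mul_apply,
    kC_comm (tau_conj hw), ← Equiv.Perm.mul_apply (actC tauK), ← map_mul,
    show tauK * (tauK⁻¹ * w * tauK) = w * tauK by group, map_mul, Equiv.Perm.mul_apply, ← appC_tau, hq]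
  exact DFunLike.congr_fun (rot_even (subEven_even hw)).eq q

theorem eta_rot : ∀ (i : Fin 9) (e : Multiplicative (ZMod 2)),
    eta i * rotE (Multiplicative.ofAdd (((edge i).rho.length : ℕ) : ZMod 2) * e) =
      (rotE (Multiplicative.ofAdd (((edge i).sigma.length : ℕ) : ZMod 2) * e))⁻¹ * eta i := by
  decide +kernel

theorem kC_rot (p : XC) : kC (rotP p) = rotP⁻¹ (kC p) := by
  obtain ⟨i, u, j, rfl⟩ := exists_coord p
  have e : ∀ (s : ℕ) (h : List ℕ) (j : Fin 3), actC u.1 (ptWC s h j) = ptC (kind s) (prodW genK h * u.1⁻¹) j :=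
    fun s h j => actC_ptC _ _ _ _
  have e1 : ∀ j', rotP (actC u.1 (srcC i j')) =
      actC u.1 (srcC i (rotE (Multiplicative.ofAdd (((edge i).rho.length : ℕ) : ZMod 2) * u.1.2⁻¹) j')) := by
    intro j'
    rw [srcC, e, rotP_ptC, srcC, e, Prod.snd_mul, Prod.snd_inv, prodW_genK]
  have e2 : ∀ j', rotP⁻¹ (actC u.1 (dstC i j')) =
      actC u.1 (dstC i ((rotE (Multiplicative.ofAdd (((edge i).sigma.length : ℕ) : ZMod 2) * u.1.2⁻¹))⁻¹ j')) := by
    intro j'
    rw [dstC, e, rotP_inv_ptC, dstC, e, Prod.snd_mul, Prod.snd_inv, prodW_genK]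
  rw [e1, kC_src i u.2, kC_src i u.2, e2, ← Equiv.Perm.mul_apply, ← Equiv.Perm.mul_apply, eta_rot]

end CfsgLib.Fi24Mult.Cover
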