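import Cfsg.Agent.Lib.Fi24Act.Loop

/-!
The points with a fibre of three: over each kind the stabiliser acts on the fibre, through the parity or
through the three classes.
-/

set_option autoImplicit false

namespace CfsgLib.Fi24Mult.Cover

open CfsgLib.CosetEnum Cfsg.Spor CfsgLib.Fi24Pres CfsgLib.Fi24Act

/-- permutations of the fibre -/
abbrev P3 : Type := Equiv.Perm (Fin 3)

/-- the parity as a permutation -/
def sgnPerm (e : Multiplicative (ZMod 2)) : P3 := if e = 1 then 1 else Equiv.swap 1 2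

/-- the rotation, turned by the parity -/
def rotE (e : Multiplicative (ZMod 2)) : P3 := if e = 1 then finRotate 3 else (finRotate 3)⁻¹

theorem sgnPerm_sign : ∀ e, Equiv.Perm.sign (sgnPerm e) = signZ e := by decide +kernel

theorem sgnPerm_mul : ∀ a b, sgnPerm (a * b) = sgnPerm a * sgnPerm b := by decide +kernel

theorem right_shape : ∀ (σ : P3) (e : Multiplicative (ZMod 2)),
    σ 0 = 0 → signZ e = Equiv.Perm.sign σ → σ = sgnPerm e := by decide +kernel

theorem rot_move : ∀ (σ : P3) (f e : Multiplicative (ZMod 2)),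
    signZ f = Equiv.Perm.sign σ → σ * rotE e = rotE (f * e) * σ := by decide +kernel

/-- the action of a stabiliser on the fibre -/
noncomputable def piS (s : Fin 3) (h : K) : P3 :=
  open Classical in
  if s = 1 then (if hh : ∃ σ, Permutes h.1 σ then hh.choose else 1) else sgnPerm h.2

theorem piS_one_eq {h : K} {σ : P3} (hσ : Permutes h.1 σ) : piS 1 h = σ := by
  classical
  rw [piS, if_pos rfl, dif_pos ⟨σ, hσ⟩]
  exact (Exists.choose_spec (⟨σ, hσ⟩ : ∃ σ, Permutes h.1 σ)).unique hσ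

theorem piS_other {s : Fin 3} (hs : s ≠ 1) (h : K) : piS s h = sgnPerm h.2 := by
  classical
  rw [piS, if_neg hs]

theorem piS_one (s : Fin 3) : piS s 1 = 1 := by
  by_cases h : s = 1
  · subst h; exact piS_one_eq Permutes.one
  · rw [piS_other h]; rfl

theorem piS_mul {s : Fin 3} {a b : K} (ha : a ∈ subS s) (hb : b ∈ subS s) :
    piS s (a * b) = piS s a * piS s b := by
  by_cases h : s = 1
  · subst h
    obtain ⟨σ, h1, -⟩ := (show a ∈ subS1 from ha)
    obtain ⟨τ, h2, -⟩ := (show b ∈ subS1 from hb)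
    rw [piS_one_eq h1, piS_one_eq h2]
    exact piS_one_eq (by rw [Prod.fst_mul]; exact h1.mul h2)
  · simp only [piS_other h, Prod.snd_mul, sgnPerm_mul]

theorem piS_inv {s : Fin 3} {a : K} (ha : a ∈ subS s) : piS s a⁻¹ = (piS s a)⁻¹ :=
  eq_inv_of_mul_eq_one_left (by rw [← piS_mul (inv_mem ha) ha, inv_mul_cancel, piS_one])

theorem piS_sign {s : Fin 3} {a : K} (ha : a ∈ subS s) : signZ a.2 = Equiv.Perm.sign (piS s a) := by
  by_cases h : s = 1
  · subst h
    obtain ⟨σ, h1, h2⟩ := (show a ∈ subS1 from ha)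
    rw [piS_one_eq h1, h2]
  · rw [piS_other h, sgnPerm_sign]

theorem piS_right {u : K} (hu : u ∈ subRight) (s : Fin 3) : piS s u = sgnPerm u.2 := by
  by_cases h : s = 1
  · subst h
    obtain ⟨σ, h1, h0, h2⟩ := right_classes hu
    rw [piS_one_eq h1, right_shape σ u.2 h0 h2]
  · exact piS_other h u

/-- the same point with the same fibre coordinate -/
def relS (s : Fin 3) (a b : K × Fin 3) : Prop :=
  a.1 * b.1⁻¹ ∈ subS s ∧ piS s (a.1 * b.1⁻¹) b.2 = a.2

theorem relS_equiv (s : Fin 3) : Equivalence (relS s) where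
  refl a := by simp [relS, piS_one]
  symm {a b} h := by
    obtain ⟨h1, h2⟩ := h
    have e : b.1 * a.1⁻¹ = (a.1 * b.1⁻¹)⁻¹ := by group
    refine ⟨e ▸ inv_mem h1, ?_⟩
    rw [e, piS_inv h1, Equiv.Perm.inv_eq_iff_eq]
    exact h2.symm
  trans {a b c} h h' := by
    obtain ⟨h1, h2⟩ := h
    obtain ⟨h3, h4⟩ := h'
    have e : a.1 * c.1⁻¹ = (a.1 * b.1⁻¹) * (b.1 * c.1⁻¹) := by group
    refine ⟨e ▸ mul_mem h1 h3, ?_⟩
    rw [e, piS_mul h1 h3, Equiv.Perm.mul_apply, h4, h2]

/-- the setoid -/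
def setS (s : Fin 3) : Setoid (K × Fin 3) := ⟨relS s, relS_equiv s⟩

/-- the points of the cover -/
abbrev XC : Type := Σ s : Fin 3, Quotient (setS s)

instance : Finite XC := by
  have : Finite K := inferInstance
  exact inferInstance

/-- a point with a fibre coordinate -/
noncomputable def ptC (s : Fin 3) (x : K) (j : Fin 3) : XC := ⟨s, Quotient.mk (setS s) (x, j)⟩

theorem ptC_eq {s : Fin 3} {x y : K} {i j : Fin 3} :
    ptC s x i = ptC s y j ↔ x * y⁻¹ ∈ subS s ∧ piS s (x * y⁻¹) j = i := by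
  rw [ptC, ptC, Sigma.mk.injEq, heq_eq_eq]
  exact ⟨fun h => Quotient.exact h.2, fun h => ⟨rfl, Quotient.sound h⟩⟩

theorem ptC_surj (p : XC) : ∃ s x j, ptC s x j = p := by
  obtain ⟨s, q⟩ := p
  induction q using Quotient.inductionOn with
  | h a => exact ⟨s, a.1, a.2, rfl⟩

/-- the point below -/
noncomputable def proj (p : XC) : X :=
  Quotient.liftOn p.2 (fun a => ptK p.1 a.1) fun _ _ h => ptK_eq.mpr h.1

theorem proj_ptC (s : Fin 3) (x : K) (j : Fin 3) : proj (ptC s x j) = ptK s x := rfl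

theorem proj_surjective : Function.Surjective proj := fun p => by
  obtain ⟨s, x, rfl⟩ := ptK_surj p
  exact ⟨ptC s x 0, rfl⟩

/-- the fibre over a point -/
theorem fibre_over {s : Fin 3} {x : K} {p : XC} (h : proj p = ptK s x) : ∃ j, p = ptC s x j := by
  obtain ⟨s', y, i, rfl⟩ := ptC_surj p
  rw [proj_ptC] at h
  obtain rfl : s' = s := congrArg Sigma.fst h
  rw [ptK_eq] at h
  refine ⟨(piS s' (y * x⁻¹))⁻¹ i, ptC_eq.mpr ⟨h, ?_⟩⟩
  rw [← Equiv.Perm.mul_apply, mul_inv_cancel, Equiv.Perm.one_apply]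

/-- an element of the cover of Fi23 on a kind -/
noncomputable def actMap (u : K) (p : XC) : XC :=
  ⟨p.1, Quotient.liftOn p.2 (fun a => Quotient.mk (setS p.1) (a.1 * u⁻¹, a.2)) fun a b h => by
    refine Quotient.sound ?_
    show relS p.1 _ _
    unfold relS
    rw [show a.1 * u⁻¹ * (b.1 * u⁻¹)⁻¹ = a.1 * b.1⁻¹ by group]
    exact h⟩

theorem actMap_ptC (u : K) (s : Fin 3) (x : K) (j : Fin 3) :
    actMap u (ptC s x j) = ptC s (x * u⁻¹) j := rfl

theorem actMap_mul (u v : K) (p : XC) : actMap (u * v) p = actMap u (actMap v p) := by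
  obtain ⟨s, x, j, rfl⟩ := ptC_surj p
  simp only [actMap_ptC, mul_inv_rev, mul_assoc]

theorem actMap_one (p : XC) : actMap 1 p = p := by
  obtain ⟨s, x, j, rfl⟩ := ptC_surj p
  simp only [actMap_ptC, inv_one, mul_one]

/-- the action of the cover of Fi23 -/
noncomputable def actC : K →* Equiv.Perm XC where
  toFun u := ⟨actMap u, actMap u⁻¹, fun p => by rw [← actMap_mul, inv_mul_cancel, actMap_one],
    fun p => by rw [← actMap_mul, mul_inv_cancel, actMap_one]⟩
  map_one' := Equiv.ext actMap_one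
  map_mul' u v := Equiv.ext (actMap_mul u v)

theorem actC_ptC (u : K) (s : Fin 3) (x : K) (j : Fin 3) : actC u (ptC s x j) = ptC s (x * u⁻¹) j :=
  actMap_ptC u s x j

theorem proj_act (u : K) (p : XC) : proj (actC u p) = actK u (proj p) := by
  obtain ⟨s, x, j, rfl⟩ := ptC_surj p
  rw [actC_ptC, proj_ptC, proj_ptC, actK_ptK]

/-- the turn of the fibres -/
noncomputable def turn (m : P3 → P3) (hm : ∀ (σ : P3) (f e : Multiplicative (ZMod 2)),
    signZ f = Equiv.Perm.sign σ → σ * m (rotE e) = m (rotE (f * e)) * σ) (p : XC) : XC :=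
  ⟨p.1, Quotient.liftOn p.2 (fun a => Quotient.mk (setS p.1) (a.1, m (rotE a.1.2) a.2)) fun a b h => by
    obtain ⟨h1, h2⟩ := h
    refine Quotient.sound ⟨h1, ?_⟩
    show piS p.1 (a.1 * b.1⁻¹) (m (rotE b.1.2) b.2) = m (rotE a.1.2) a.2
    rw [← Equiv.Perm.mul_apply, hm _ (a.1 * b.1⁻¹).2 _ (piS_sign h1), Equiv.Perm.mul_apply, h2,
      show (a.1 * b.1⁻¹).2 * b.1.2 = a.1.2 from inv_mul_cancel_right a.1.2 b.1.2]⟩

theorem rot_move_inv (σ : P3) (f e : Multiplicative (ZMod 2)) (h : signZ f = Equiv.Perm.sign σ) :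
    σ * (rotE e)⁻¹ = (rotE (f * e))⁻¹ * σ := by
  rw [eq_inv_mul_iff_mul_eq, ← mul_assoc, ← rot_move σ f e h, mul_inv_cancel_right]

theorem turn_ptC {m : P3 → P3} {hm} (s : Fin 3) (x : K) (j : Fin 3) :
    turn m hm (ptC s x j) = ptC s x (m (rotE x.2) j) := rfl

/-- the rotation of every fibre -/
noncomputable def rotP : Equiv.Perm XC where
  toFun := turn id rot_move
  invFun := turn (·⁻¹) rot_move_inv
  left_inv p := by
    obtain ⟨s, x, j, rfl⟩ := ptC_surj p
    rw [turn_ptC, turn_ptC, id, ← Equiv.Perm.mul_apply, inv_mul_cancel, Equiv.Perm.one_apply]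
  right_inv p := by
    obtain ⟨s, x, j, rfl⟩ := ptC_surj p
    rw [turn_ptC, turn_ptC, id, ← Equiv.Perm.mul_apply, mul_inv_cancel, Equiv.Perm.one_apply]

theorem rotP_ptC (s : Fin 3) (x : K) (j : Fin 3) : rotP (ptC s x j) = ptC s x (rotE x.2 j) := rfl

theorem rotP_inv_ptC (s : Fin 3) (x : K) (j : Fin 3) : rotP⁻¹ (ptC s x j) = ptC s x ((rotE x.2)⁻¹ j) := rfl

theorem proj_rot (p : XC) : proj (rotP p) = proj p := by
  obtain ⟨s, x, j, rfl⟩ := ptC_surj p
  rfl

theorem rot_even {u : K} (hu : u.2 = 1) : Commute (actC u) rotP := by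
  refine Equiv.ext fun p => ?_
  obtain ⟨s, x, j, rfl⟩ := ptC_surj p
  simp only [Equiv.Perm.mul_apply, rotP_ptC, actC_ptC, Prod.snd_mul, Prod.snd_inv, hu, inv_one, mul_one]

theorem rot_odd {u : K} (hu : u.2 = Multiplicative.ofAdd 1) : actC u * rotP = rotP⁻¹ * actC u := by
  refine Equiv.ext fun p => ?_
  obtain ⟨s, x, j, rfl⟩ := ptC_surj p
  simp only [Equiv.Perm.mul_apply, rotP_ptC, actC_ptC, rotP_inv_ptC, Prod.snd_mul, Prod.snd_inv, hu]
  have h : ∀ e : Multiplicative (ZMod 2), rotE e = (rotE (e * (Multiplicative.ofAdd 1)⁻¹))⁻¹ := by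
    decide +kernel
  rw [← h]

end CfsgLib.Fi24Mult.Cover
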