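import Cfsg.Agent.Lib.Fi24Mult.Bound
import Cfsg.Agent.Lib.Fi24Mult.Cover

/-!
The Schur multiplier of Fi24' is cyclic of order three.
-/

set_option autoImplicit false

namespace CfsgLib.Fi24Mult

open Cfsg.Spor

theorem hasSchurMultiplier : Cfsg.HasCyclicSchurMultiplier Fi24' 3 := by
  haveI : Finite Cover.XC := inferInstance
  refine ⟨⟨Cover.Triple, inferInstance, inferInstance, Cover.downT, Cover.stem_triple, ⟨?_⟩⟩, ?_⟩
  · haveI : Fact (Nat.Prime 3) := ⟨Nat.prime_three⟩
    exact mulEquivOfPrimeCardEq Cover.ker_card (by simp [Nat.card_eq_fintype_card])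
  · intro Γ _ _ σ hσ
    obtain ⟨z, hz, h3, hle⟩ := stem_bound hσ
    let w : σ.ker := ⟨z, hz⟩
    have hw : w ^ 3 = 1 := Subtype.ext (by rw [SubmonoidClass.coe_pow]; exact h3)
    refine ⟨{ toFun := fun x => w ^ (Multiplicative.toAdd x).val
              map_one' := by simp
              map_mul' := fun a b => by
                rw [← pow_add, toAdd_mul, ZMod.val_add]
                exact pow_eq_pow_of_modEq (Nat.mod_modEq _ _) hw }, fun y => ?_⟩
    obtain ⟨k, hk⟩ := Subgroup.mem_zpowers_iff.mp (hle y.2)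
    refine ⟨Multiplicative.ofAdd (k : ZMod 3), Subtype.ext ?_⟩
    show ((w ^ ((k : ℤ) : ZMod 3).val : σ.ker) : Γ) = y
    rw [SubmonoidClass.coe_pow, ← hk, ← zpow_natCast, ZMod.val_intCast]
    show z ^ (k % 3) = z ^ k
    conv_rhs => rw [← Int.mul_ediv_add_emod k 3]
    rw [zpow_add, zpow_mul, show z ^ (3 : ℤ) = 1 by exact_mod_cast h3, one_zpow, one_mul]

end CfsgLib.Fi24Mult
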